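import Mathlib

/-!
# Abelian `p`-groups acting on a module for an abelian `p'`-group, `p ≥ 5`

`V` is an elementary abelian `p`-group, `ρ` a representation, `K` a subgroup of order prime to `p`
with commuting images and `A` an abelian `p`-subgroup normalising the image of `K`. If on the
symmetric orbit `R⁺ u` of every `A`-fixed vector `u` each `(a - 1) ^ 2` agrees with some `a' - 1`
up to `A`-fixed vectors, then `A` centralises the image of `K`.
-/

set_option autoImplicit false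
set_option linter.unusedSectionVars false
set_option linter.deprecated false
set_option linter.unusedSimpArgs false
set_option linter.style.haveILetI false

namespace CfsgLib.ThompsonAbelian

universe u v

variable {Γ : Type u} [Group Γ] {V : Type v} [AddCommGroup V]
variable (ρ : Γ →* AddMonoid.End V) (K A : Subgroup Γ)

/-- The subring generated by the image of `K`. -/
abbrev full : Subring (AddMonoid.End V) := Subring.closure (ρ '' (K : Set Γ))

/-- The subring generated by the symmetrised image of `K`. -/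
def sym : Subring (AddMonoid.End V) := Subring.closure {x | ∃ k ∈ K, x = ρ k + ρ k⁻¹}

/-- The fixed vectors of `A`. -/
def Fix : AddSubgroup V where
  carrier := {v | ∀ a ∈ A, ρ a v = v}
  add_mem' := fun hx hy a ha => by rw [map_add, hx a ha, hy a ha]
  zero_mem' := fun a _ => map_zero _
  neg_mem' := fun hx a ha => by rw [map_neg, hx a ha]

theorem sym_le_full : sym ρ K ≤ full ρ K := by
  refine Subring.closure_le.2 ?_
  rintro x ⟨k, hk, rfl⟩
  exact add_mem (Subring.subset_closure ⟨k, hk, rfl⟩)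
    (Subring.subset_closure ⟨k⁻¹, inv_mem hk, rfl⟩)

theorem rho_mem {k : Γ} (hk : k ∈ K) : ρ k ∈ full ρ K := Subring.subset_closure ⟨k, hk, rfl⟩

theorem rho_mul_inv (a : Γ) : ρ a * ρ a⁻¹ = 1 := by rw [← map_mul, mul_inv_cancel, map_one]

theorem rho_inv_mul (a : Γ) : ρ a⁻¹ * ρ a = 1 := by rw [← map_mul, inv_mul_cancel, map_one]

theorem conj_apply (a : Γ) (x : AddMonoid.End V) (v : V) (hv : ρ a v = v) :
    (ρ a * x * ρ a⁻¹) v = ρ a (x v) := by
  have h : ρ a⁻¹ v = v := by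
    conv_lhs => rw [← hv]
    exact DFunLike.congr_fun (rho_inv_mul ρ a) v
  show ρ a (x (ρ a⁻¹ v)) = _
  rw [h]

variable {ρ K A}

theorem conj_mem_of (s : Set (AddMonoid.End V)) (a : Γ)
    (hs : ∀ x ∈ s, ρ a * x * ρ a⁻¹ ∈ Subring.closure s) {x : AddMonoid.End V}
    (hx : x ∈ Subring.closure s) : ρ a * x * ρ a⁻¹ ∈ Subring.closure s := by
  induction hx using Subring.closure_induction with
  | mem x hx => exact hs x hx
  | zero => simp
  | one => simp [rho_mul_inv]
  | add x y _ _ hx hy => rw [mul_add, add_mul]; exact add_mem hx hy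
  | neg x _ hx => rw [mul_neg, neg_mul]; exact neg_mem hx
  | mul x y _ _ hx hy =>
    have e : ρ a * (x * y) * ρ a⁻¹ = (ρ a * x * ρ a⁻¹) * (ρ a * y * ρ a⁻¹) := by
      rw [show (ρ a * x * ρ a⁻¹) * (ρ a * y * ρ a⁻¹) = ρ a * x * (ρ a⁻¹ * ρ a) * (y * ρ a⁻¹) by
        simp only [mul_assoc], rho_inv_mul, mul_one]
      simp only [mul_assoc]
    rw [e]; exact mul_mem hx hy

/-- An `A`-invariant subgroup with no nonzero fixed vector is trivial, and a minimal
invariant subgroup is fixed modulo any invariant subgroup below it. -/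
theorem exists_minimal {p : ℕ} [Fact p.Prime] [Finite V] (hV : ∀ v : V, p • v = 0)
    (hAp : IsPGroup p A) (hA : ∀ a ∈ A, ∀ b ∈ A, a * b = b * a) (W F : AddSubgroup V)
    (hW : ∀ a ∈ A, ∀ w ∈ W, ρ a w ∈ W) (hWF : ¬ W ≤ F) :
    ∃ w ∈ W, w ∉ F ∧ ∀ a ∈ A, ρ a w - w ∈ F := by
  classical
  obtain ⟨M, ⟨hMW, hMinv, hMF⟩, hmin⟩ := Set.Finite.exists_minimal
    (s := {M : AddSubgroup V | M ≤ W ∧ (∀ a ∈ A, ∀ w ∈ M, ρ a w ∈ M) ∧ ¬ M ≤ F})
    (Set.toFinite _) ⟨W, le_rfl, hW, hWF⟩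
  obtain ⟨w, hwM, hwF⟩ := SetLike.not_le_iff_exists.1 hMF
  refine ⟨w, hMW hwM, hwF, fun a ha => ?_⟩
  set D : AddMonoid.End V := ρ a - 1 with hD
  have hDap : ∀ x, D x = ρ a x - x := fun x => rfl
  have hle : M.map (D : V →+ V) ≤ M := by
    rintro _ ⟨x, hx, rfl⟩
    exact M.sub_mem (hMinv a ha x hx) hx
  by_contra hne
  have hnot : ¬ M.map (D : V →+ V) ≤ F := fun h => hne (h ⟨w, hwM, rfl⟩)
  have heq : M ≤ M.map (D : V →+ V) := by
    refine hmin ⟨hle.trans hMW, ?_, hnot⟩ hle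
    rintro b hb _ ⟨x, hx, rfl⟩
    refine ⟨ρ b x, hMinv b hb x hx, ?_⟩
    show ρ a (ρ b x) - ρ b x = ρ b (ρ a x - x)
    rw [map_sub]
    congr 1
    show (ρ a * ρ b) x = (ρ b * ρ a) x
    rw [← map_mul, hA a ha b hb, map_mul]
  have hnil : ∃ m : ℕ, D ^ (p ^ m) = 0 := by
    obtain ⟨m, hm⟩ := hAp ⟨a, ha⟩
    refine ⟨m, ?_⟩
    have hp : p.Prime := Fact.out
    rcases subsingleton_or_nontrivial (AddMonoid.End V) with hss | hnt
    · exact Subsingleton.elim _ _
    have : CharP (AddMonoid.End V) p := (CharP.charP_iff_prime_eq_zero hp).2 (by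
      ext v; simpa [AddMonoid.End.natCast_apply] using hV v)
    rw [hD, sub_pow_char_pow_of_commute (R := AddMonoid.End V) p m (Commute.one_right _), one_pow,
      ← map_pow]
    have : a ^ p ^ m = 1 := congrArg Subtype.val hm
    rw [this, map_one, sub_self]
  obtain ⟨m, hm⟩ := hnil
  have hpow : ∀ n : ℕ, ∀ x ∈ M, ∃ y ∈ M, (D ^ n) y = x := by
    intro n
    induction n with
    | zero => exact fun x hx => ⟨x, hx, rfl⟩
    | succ n ih =>
      intro x hx
      obtain ⟨y, hy, rfl⟩ := ih x hx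
      obtain ⟨z, hz, rfl⟩ := heq hy
      refine ⟨z, hz, ?_⟩
      rw [pow_succ]; rfl
  obtain ⟨y, -, hy⟩ := hpow (p ^ m) w hwM
  rw [hm] at hy
  exact hwF (hy ▸ F.zero_mem)

variable {p : ℕ} [Fact p.Prime] [Finite V]

/-- The main algebraic step. -/
theorem conj_eq_of_key (hp : 5 ≤ p) (hV : ∀ v : V, p • v = 0) (hAp : IsPGroup p A)
    (hA : ∀ a ∈ A, ∀ b ∈ A, a * b = b * a) [Finite K]
    (hKc : ∀ k ∈ K, ∀ l ∈ K, k * l = l * k) (hKp : (Nat.card K).Coprime p)
    (hnorm : ∀ a ∈ A, ∀ k ∈ K, ∃ k' ∈ K, ρ (a * k * a⁻¹) = ρ k')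
    (hkey : ∀ u ∈ Fix ρ A, ∀ r ∈ sym ρ K, ∀ a ∈ A, ∃ a' ∈ A,
      ρ a (ρ a (r u) - r u) - (ρ a (r u) - r u) - (ρ a' (r u) - r u) ∈ Fix ρ A) :
    ∀ a ∈ A, ∀ k ∈ K, ρ (a * k * a⁻¹) = ρ k := by
  classical
  have hp' : p.Prime := Fact.out
  rcases subsingleton_or_nontrivial (AddMonoid.End V) with hss | hnt
  · exact fun a _ k _ => Subsingleton.elim _ _
  have hchar : CharP (AddMonoid.End V) p := (CharP.charP_iff_prime_eq_zero hp').2 (by
      ext v; simpa [AddMonoid.End.natCast_apply] using hV v)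
  have hcomm : ∀ x ∈ ρ '' (K : Set Γ), ∀ y ∈ ρ '' (K : Set Γ), x * y = y * x := by
    rintro _ ⟨k, hk, rfl⟩ _ ⟨l, hl, rfl⟩
    rw [← map_mul, hKc k hk l hl, map_mul]
  let R := ↥(full ρ K)
  letI : CommRing R := Subring.closureCommRingOfComm hcomm
  haveI : CharP R p := (CharP.charP_iff_prime_eq_zero hp').2 (Subtype.ext (by
    show ((p : R) : AddMonoid.End V) = 0
    push_cast
    exact CharP.cast_eq_zero _ p))
  -- `K` gives idempotent powers
  set n := Nat.card K with hn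
  have hn0 : 0 < n := Nat.card_pos
  have hfrob : ∀ x : R, x ^ p ^ n.totient = x := by
    rintro ⟨x, hx⟩
    have key : ∀ y, y ∈ Subring.closure (ρ '' (K : Set Γ)) → ∀ hy : y ∈ full ρ K,
        (⟨y, hy⟩ : R) ^ p ^ n.totient = ⟨y, hy⟩ := by
      intro y hy
      induction hy using Subring.closure_induction with
      | mem y hy =>
        intro _
        obtain ⟨k, hk, rfl⟩ := hy
        refine Subtype.ext ?_
        show (ρ k) ^ p ^ n.totient = ρ k
        have hmod : p ^ n.totient ≡ 1 [MOD n] := Nat.ModEq.pow_totient hKp.symm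
        have hkn : k ^ n = 1 := congrArg Subtype.val (pow_card_eq_one' (x := (⟨k, hk⟩ : K)))
        rw [← map_pow, pow_eq_pow_of_modEq hmod hkn, pow_one]
      | zero =>
        intro h
        exact zero_pow (pow_ne_zero _ hp'.ne_zero)
      | one => intro h; exact one_pow _
      | add y z hy hz ihy ihz =>
        intro h
        have e : (⟨y + z, h⟩ : R) = ⟨y, hy⟩ + ⟨z, hz⟩ := rfl
        rw [e, add_pow_char_pow, ihy, ihz]
      | neg y hy ihy =>
        intro h
        have e : (⟨-y, h⟩ : R) = 0 - ⟨y, hy⟩ := by rw [zero_sub]; rfl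
        rw [e, sub_pow_char_pow, ihy, zero_pow (pow_ne_zero _ hp'.ne_zero)]
      | mul y z hy hz ihy ihz =>
        intro h
        have e : (⟨y * z, h⟩ : R) = ⟨y, hy⟩ * ⟨z, hz⟩ := rfl
        rw [e, mul_pow, ihy, ihz]
    exact key x hx hx
  -- the action of `A` on `R`
  have hconjfull : ∀ a ∈ A, ∀ x ∈ full ρ K, ρ a * x * ρ a⁻¹ ∈ full ρ K := by
    intro a ha x hx
    refine conj_mem_of (ρ '' (K : Set Γ)) a ?_ hx
    rintro _ ⟨k, hk, rfl⟩
    obtain ⟨k', hk', e⟩ := hnorm a ha k hk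
    rw [← map_mul, ← map_mul, e]
    exact rho_mem ρ K hk'
  have hconjsym : ∀ a ∈ A, ∀ x ∈ sym ρ K, ρ a * x * ρ a⁻¹ ∈ sym ρ K := by
    intro a ha x hx
    refine conj_mem_of _ a ?_ hx
    rintro _ ⟨k, hk, rfl⟩
    obtain ⟨k', hk', e⟩ := hnorm a ha k hk
    have e1 : ρ (a * k⁻¹ * a⁻¹) = ρ k'⁻¹ := by
      calc ρ (a * k⁻¹ * a⁻¹) = ρ (a * k⁻¹ * a⁻¹) * (ρ k' * ρ k'⁻¹) := by
            rw [rho_mul_inv, mul_one]
        _ = ρ (a * k⁻¹ * a⁻¹) * (ρ (a * k * a⁻¹) * ρ k'⁻¹) := by rw [e]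
        _ = _ := by
          rw [← mul_assoc, ← map_mul, show a * k⁻¹ * a⁻¹ * (a * k * a⁻¹) = 1 by group, map_one,
            one_mul]
    refine Subring.subset_closure ⟨k', hk', ?_⟩
    rw [mul_add, add_mul, ← map_mul, ← map_mul, ← map_mul, ← map_mul, e, e1]
  let σ : ↥A → R →+* R := fun a =>
    { toFun := fun x => ⟨ρ a * x * ρ (a : Γ)⁻¹, hconjfull a a.2 x x.2⟩
      map_one' := Subtype.ext (by show ρ a * 1 * ρ (a : Γ)⁻¹ = 1; rw [mul_one, rho_mul_inv])
      map_mul' := fun x y => Subtype.ext (by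
        show ρ a * (↑x * ↑y) * ρ (a : Γ)⁻¹ = (ρ a * ↑x * ρ (a : Γ)⁻¹) * (ρ a * ↑y * ρ (a : Γ)⁻¹)
        rw [show (ρ a * (x : AddMonoid.End V) * ρ (a : Γ)⁻¹) * (ρ a * (y : AddMonoid.End V) *
            ρ (a : Γ)⁻¹) = ρ a * x * (ρ (a : Γ)⁻¹ * ρ a) * ((y : AddMonoid.End V) * ρ (a : Γ)⁻¹) by
          simp only [mul_assoc], rho_inv_mul, mul_one]
        simp only [mul_assoc])
      map_zero' := Subtype.ext (by show ρ a * 0 * ρ (a : Γ)⁻¹ = 0; simp)
      map_add' := fun x y => Subtype.ext (by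
        show ρ a * (↑x + ↑y) * ρ (a : Γ)⁻¹ = ρ a * ↑x * ρ (a : Γ)⁻¹ + ρ a * ↑y * ρ (a : Γ)⁻¹
        rw [mul_add, add_mul]) }
  -- the annihilator of a fixed vector
  let Ann : V → Ideal R := fun u =>
    { carrier := {r : R | (r : AddMonoid.End V) u = 0}
      add_mem' := fun {r s} (hr : (r : AddMonoid.End V) u = 0)
          (hs : (s : AddMonoid.End V) u = 0) => by
        show (r : AddMonoid.End V) u + (s : AddMonoid.End V) u = 0
        rw [hr, hs, add_zero]
      zero_mem' := rfl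
      smul_mem' := fun c r (hr : (r : AddMonoid.End V) u = 0) => by
        show (c : AddMonoid.End V) ((r : AddMonoid.End V) u) = 0
        rw [hr, map_zero] }
  have hAnn : ∀ (u : V) (r : R), r ∈ Ann u ↔ (r : AddMonoid.End V) u = 0 := fun u r => Iff.rfl
  have hmk : ∀ (u : V) (r s : R), Ideal.Quotient.mk (Ann u) r = Ideal.Quotient.mk (Ann u) s ↔
      (r : AddMonoid.End V) u = (s : AddMonoid.End V) u := by
    intro u r s
    rw [Ideal.Quotient.eq, hAnn]
    exact sub_eq_zero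
  have hred : ∀ (u : V) (r : R) (m : ℕ), r ^ m ∈ Ann u → r ∈ Ann u := by
    intro u r m hm
    have hit : ∀ j : ℕ, r ^ (p ^ n.totient) ^ j = r := by
      intro j
      induction j with
      | zero => simp
      | succ j ih => rw [pow_succ, pow_mul, ih, hfrob]
    have hgt : 1 < p ^ n.totient :=
      Nat.one_lt_pow (Nat.totient_pos.2 hn0).ne' hp'.one_lt
    have hm' : m ≤ (p ^ n.totient) ^ m := (Nat.lt_pow_self hgt).le
    rw [← hit m, ← Nat.add_sub_cancel' hm', pow_add]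
    exact Ideal.mul_mem_right _ _ hm
  -- the set `R⁺ u` is pointwise fixed
  have hsymfix : ∀ u ∈ Fix ρ A, ∀ r ∈ sym ρ K, r u ∈ Fix ρ A := by
    intro u hu
    let W : AddSubgroup V :=
      { carrier := {w | ∃ r ∈ sym ρ K, r u = w}
        add_mem' := by
          rintro _ _ ⟨r, hr, rfl⟩ ⟨s, hs, rfl⟩
          exact ⟨r + s, add_mem hr hs, rfl⟩
        zero_mem' := ⟨0, zero_mem _, rfl⟩
        neg_mem' := by
          rintro _ ⟨r, hr, rfl⟩
          exact ⟨-r, neg_mem hr, rfl⟩ }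
    by_contra hcon
    push Not at hcon
    obtain ⟨r₀, hr₀, hr₀'⟩ := hcon
    obtain ⟨w, ⟨x₀, hx₀, rfl⟩, hwF, hw⟩ := exists_minimal hV hAp hA W (Fix ρ A) (by
      rintro a ha _ ⟨r, hr, rfl⟩
      exact ⟨_, hconjsym a ha r hr, conj_apply ρ a r u (hu a ha)⟩)
      (fun h => hr₀' (h ⟨r₀, hr₀, rfl⟩))
    let x : R := ⟨x₀, sym_le_full ρ K hx₀⟩
    let c : ↥A → R := fun a => σ a x - x
    set π := Ideal.Quotient.mk (Ann u) with hπ
    have hσu : ∀ (a : ↥A) (r : R), ρ a ((r : AddMonoid.End V) u) = (σ a r : AddMonoid.End V) u :=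
      fun a r => (conj_apply ρ a r u (hu a a.2)).symm
    have hσπ : ∀ (a : ↥A) (r s : R), π r = π s → π (σ a r) = π (σ a s) := by
      intro a r s h
      rw [hmk] at h ⊢
      rw [← hσu, ← hσu, h]
    have hfix : ∀ (a : ↥A) (r : R), π (σ a r) = π r ↔ ρ a ((r : AddMonoid.End V) u) =
        (r : AddMonoid.End V) u := fun a r => by rw [hmk, hσu]
    have hx : ∀ a : ↥A, π (σ a x) = π x + π (c a) := fun a => by
      simp only [c, map_sub]; ring
    have hc : ∀ a b : ↥A, π (σ b (c a)) = π (c a) := fun a b => by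
      rw [hfix]
      have e : ((c a : R) : AddMonoid.End V) u = ρ a (x₀ u) - x₀ u := by
        show (σ a x : AddMonoid.End V) u - x₀ u = _
        rw [← hσu]
      rw [e]
      exact hw a a.2 b b.2
    -- the cubic computation
    have hsq : ∀ (a b : ↥A), π (c a) ^ 3 = 0 := by
      intro a _
      obtain ⟨a', ha', hd⟩ := hkey u hu (x₀ * x₀ * x₀)
        (mul_mem (mul_mem hx₀ hx₀) hx₀) a a.2
      let y : R := x ^ 3
      let d : R := σ a (σ a y - y) - (σ a y - y) - (σ ⟨a', ha'⟩ y - y)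
      have hy : ((y : R) : AddMonoid.End V) = x₀ * x₀ * x₀ := by
        show (((x ^ 3 : R)) : AddMonoid.End V) = _
        rw [pow_three', Subring.coe_mul, Subring.coe_mul]
      have hdu : (d : AddMonoid.End V) u ∈ Fix ρ A := by
        have e : (d : AddMonoid.End V) u = ρ a (ρ a ((x₀ * x₀ * x₀) u) - (x₀ * x₀ * x₀) u) -
            (ρ a ((x₀ * x₀ * x₀) u) - (x₀ * x₀ * x₀) u) -
            (ρ a' ((x₀ * x₀ * x₀) u) - (x₀ * x₀ * x₀) u) := by
          show (σ a (σ a y - y) : AddMonoid.End V) u -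
            ((σ a y : AddMonoid.End V) u - (y : AddMonoid.End V) u) -
            ((σ ⟨a', ha'⟩ y : AddMonoid.End V) u - (y : AddMonoid.End V) u) = _
          rw [← hσu, ← hσu, ← hy]
          show ρ a ((σ a y : AddMonoid.End V) u - (y : AddMonoid.End V) u) - _ - _ = _
          rw [← hσu, ← hσu ⟨a', ha'⟩]
        rw [e]; exact hd
      set C := π (c a) with hC
      set C' := π (c ⟨a', ha'⟩) with hC'
      set X := π x with hX
      let d₀ : R := 6 * c a ^ 2 * x + 6 * c a ^ 3 -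
        (3 * c ⟨a', ha'⟩ * x ^ 2 + 3 * c ⟨a', ha'⟩ ^ 2 * x + c ⟨a', ha'⟩ ^ 3)
      have hd₀ : π d = π d₀ := by
        have e : σ a x = x + c a := by simp only [c]; ring
        simp only [d, d₀, y, map_sub, map_pow, map_add, map_mul, map_ofNat, e, hc, hx, ← hC,
          ← hC', ← hX]
        ring
      -- first derivative
      have hd1 : ∀ b : ↥A, 6 * C ^ 2 * π (c b) - (3 * C' * (2 * X * π (c b) + π (c b) ^ 2) +
          3 * C' ^ 2 * π (c b)) = 0 := by
        intro b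
        have h1 : π (σ b d₀) = π d₀ := by
          rw [← hσπ b d d₀ hd₀, ← hd₀, hfix]
          exact hdu b b.2
        simp only [d₀, map_sub, map_pow, map_add, map_mul, map_ofNat, hc, hx, ← hC, ← hC',
          ← hX] at h1
        linear_combination h1
      have h6 : ∀ b : ↥A, 6 * C' * π (c b) ^ 2 = 0 := by
        intro b
        let d₁ : R := 6 * c a ^ 2 * c b - (3 * c ⟨a', ha'⟩ * (2 * x * c b + c b ^ 2) +
          3 * c ⟨a', ha'⟩ ^ 2 * c b)
        have h0 : π d₁ = π 0 := by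
          simp only [d₁, map_sub, map_pow, map_add, map_mul, map_ofNat, map_zero, ← hC, ← hC',
            ← hX]
          exact hd1 b
        have h1 := hσπ b _ _ h0
        simp only [d₁, map_sub, map_pow, map_add, map_mul, map_ofNat, map_zero, hc, hx, ← hC,
          ← hC', ← hX] at h1
        linear_combination hd1 b - h1
      have hu6 : ∀ z : R ⧸ Ann u, 6 * z = 0 → z = 0 := by
        intro z hz
        obtain ⟨r, rfl⟩ := Ideal.Quotient.mk_surjective z
        have hcop : Nat.Coprime 6 p := ((Nat.coprime_primes hp' Nat.prime_two).2 (by omega)).symm.mul_left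
          ((Nat.coprime_primes hp' Nat.prime_three).2 (by omega)).symm
        obtain ⟨i, hi⟩ : ∃ i : ℕ, 6 * i ≡ 1 [MOD p] := by
          obtain ⟨i, -, hi⟩ := Nat.exists_mul_mod_eq_one_of_coprime hcop hp'.one_lt
          exact ⟨i, by rw [Nat.ModEq, hi, Nat.mod_eq_of_lt hp'.one_lt]⟩
        have hone : ((6 * i : ℕ) : R) = 1 := by
          rw [(CharP.natCast_eq_natCast R p).2 hi, Nat.cast_one]
        calc Ideal.Quotient.mk (Ann u) r
            = Ideal.Quotient.mk (Ann u) (((6 * i : ℕ) : R) * r) := by rw [hone, one_mul]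
          _ = (i : R ⧸ Ann u) * (6 * Ideal.Quotient.mk (Ann u) r) := by
            rw [map_mul, map_natCast]; push_cast; ring
          _ = 0 := by rw [hz, mul_zero]
      have hq : ∀ z : R ⧸ Ann u, z ^ 2 = 0 → z = 0 := by
        intro z hz
        obtain ⟨r, rfl⟩ := Ideal.Quotient.mk_surjective z
        rw [← map_pow, Ideal.Quotient.eq_zero_iff_mem] at hz
        exact Ideal.Quotient.eq_zero_iff_mem.2 (hred u r 2 hz)
      have hce : ∀ b : ↥A, C' * π (c b) = 0 := by
        intro b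
        apply hq
        apply hu6
        linear_combination C' * h6 b
      apply hu6
      linear_combination hd1 a + (6 * X + 3 * C + 3 * C') * hce a
    refine hwF fun a ha => ?_
    have h3 := hsq ⟨a, ha⟩ ⟨a, ha⟩
    have h1 : π (c ⟨a, ha⟩) = 0 := by
      rw [← map_pow, Ideal.Quotient.eq_zero_iff_mem] at h3
      exact Ideal.Quotient.eq_zero_iff_mem.2 (hred u _ 3 h3)
    have h2 : π (σ ⟨a, ha⟩ x) = π x := by rw [hx, h1, add_zero]
    exact (hfix ⟨a, ha⟩ x).1 h2
  -- every fixed vector sees no difference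
  have hodd : Odd p := hp'.odd_of_ne_two (by omega)
  have hsame : ∀ u ∈ Fix ρ A, ∀ a ∈ A, ∀ k ∈ K, ρ (a * k * a⁻¹) u = ρ k u := by
    intro u hu a ha k hk
    let kk : ↥K → R := fun l => ⟨ρ (l : Γ), rho_mem ρ K l.2⟩
    suffices h : σ ⟨a, ha⟩ (kk ⟨k, hk⟩) - kk ⟨k, hk⟩ ∈ (Ann u).radical by
      obtain ⟨m, hm⟩ := h
      have := hred u _ m hm
      rw [hAnn] at this
      have e : (ρ a * ρ k * ρ a⁻¹) u - ρ k u = 0 := this
      rw [map_mul, map_mul]
      exact sub_eq_zero.1 e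
    rw [Ideal.radical_eq_sInf, Submodule.mem_sInf]
    rintro P ⟨hAP, hP⟩
    haveI := hP
    haveI : IsDomain (R ⧸ P) := Ideal.Quotient.isDomain P
    set φ := Ideal.Quotient.mk P with hφ
    let Stab : Set ↥A := {a | ∀ l, φ (σ a (kk l)) = φ (kk l)}
    have hunit : ∀ l, φ (kk l) * φ (kk l⁻¹) = 1 := fun l => by
      rw [← map_mul, show kk l * kk l⁻¹ = 1 from Subtype.ext (rho_mul_inv ρ (l : Γ)), map_one]
    have hkk : ∀ l m, kk (l * m) = kk l * kk m := fun l m => Subtype.ext (map_mul ρ _ _)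
    -- for each element, all of `K` is fixed or all of it is inverted
    have hdich : ∀ b : ↥A, (∀ l, φ (σ b (kk l)) = φ (kk l)) ∨
        (∀ l, φ (σ b (kk l)) = φ (kk l⁻¹)) := by
      intro b
      have hpt : ∀ l, φ (σ b (kk l)) = φ (kk l) ∨ φ (σ b (kk l)) = φ (kk l⁻¹) := by
        intro l
        have hsum : φ (σ b (kk l)) + φ (σ b (kk l⁻¹)) = φ (kk l) + φ (kk l⁻¹) := by
          rw [← map_add, ← map_add, ← map_add, Ideal.Quotient.eq]
          apply hAP
          rw [hAnn]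
          have hs : ρ (l : Γ) + ρ (l : Γ)⁻¹ ∈ sym ρ K :=
            Subring.subset_closure ⟨l, l.2, rfl⟩
          have e := hsymfix u hu _ hs b b.2
          show (ρ b * (ρ (l : Γ) + ρ (l : Γ)⁻¹) * ρ (b : Γ)⁻¹) u -
            (ρ (l : Γ) + ρ (l : Γ)⁻¹) u = 0
          rw [conj_apply ρ _ _ _ (hu b b.2), e, sub_self]
        have hmul : (φ (σ b (kk l)) - φ (kk l)) * (φ (σ b (kk l)) - φ (kk l⁻¹)) = 0 := by
          have h1 : φ (σ b (kk l)) * φ (σ b (kk l⁻¹)) = 1 := by
            rw [← map_mul, ← map_mul,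
              show kk l * kk l⁻¹ = 1 from Subtype.ext (rho_mul_inv ρ (l : Γ)), map_one, map_one]
          linear_combination φ (σ b (kk l)) * hsum + hunit l - h1
        rcases mul_eq_zero.1 hmul with h | h
        · exact Or.inl (sub_eq_zero.1 h)
        · exact Or.inr (sub_eq_zero.1 h)
      by_contra hcon
      push Not at hcon
      obtain ⟨⟨l, hl⟩, m, hm⟩ := hcon
      have hl' := (hpt l).resolve_left hl
      have hm' := (hpt m).resolve_right hm
      rcases hpt (l * m) with h | h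
      · rw [hkk, map_mul, map_mul, map_mul, hm'] at h
        exact hl (mul_right_cancel₀ (left_ne_zero_of_mul_eq_one (hunit m)) h)
      · have he : (l * m)⁻¹ = l⁻¹ * m⁻¹ := by
          rw [mul_inv_rev]
          exact Subtype.ext (hKc _ (m⁻¹).2 _ (l⁻¹).2)
        rw [he, hkk, hkk, map_mul, map_mul, map_mul, hl'] at h
        exact hm (mul_left_cancel₀ (left_ne_zero_of_mul_eq_one
          (by rw [mul_comm]; exact hunit l)) h)
    have hcomp : ∀ (b c : ↥A) (r : R), σ (b * c) r = σ b (σ c r) := by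
      intro b c r
      refine Subtype.ext ?_
      show ρ ((b : Γ) * c) * r * ρ ((b : Γ) * c)⁻¹ = ρ b * (ρ c * r * ρ (c : Γ)⁻¹) * ρ (b : Γ)⁻¹
      rw [mul_inv_rev, map_mul, map_mul]
      simp only [mul_assoc]
    -- the kernel of the induced action on `R ⧸ P` is closed under products
    have hmulS : ∀ b c : ↥A, (∀ l, φ (σ c (kk l)) = φ (kk l)) →
        ∀ l, φ (σ (b * c) (kk l)) = φ (σ b (kk l)) := by
      intro b c hc l
      obtain ⟨k', hk', e⟩ := hnorm c c.2 l l.2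
      have e' : σ c (kk l) = kk ⟨k', hk'⟩ := Subtype.ext (by
        show ρ c * ρ (l : Γ) * ρ (c : Γ)⁻¹ = ρ k'
        rw [← map_mul, ← map_mul, e])
      rw [hcomp, e']
      rcases hdich b with h | h
      · rw [h, h, ← e', hc]
      · rw [h, h]
        have h2 : φ (kk ⟨k', hk'⟩) = φ (kk l) := by rw [← e', hc]
        calc φ (kk ⟨k', hk'⟩⁻¹)
            = φ (kk ⟨k', hk'⟩⁻¹) * (φ (kk l) * φ (kk l⁻¹)) := by rw [hunit, mul_one]
          _ = φ (kk ⟨k', hk'⟩) * φ (kk ⟨k', hk'⟩⁻¹) * φ (kk l⁻¹) := by rw [h2]; ring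
          _ = φ (kk l⁻¹) := by rw [hunit, one_mul]
    have hsq : ∀ (b : ↥A) (l : ↥K), φ (σ (b * b) (kk l)) = φ (kk l) := by
      intro b l
      obtain ⟨k', hk', e⟩ := hnorm b b.2 l l.2
      have e' : σ b (kk l) = kk ⟨k', hk'⟩ := Subtype.ext (by
        show ρ b * ρ (l : Γ) * ρ (b : Γ)⁻¹ = ρ k'
        rw [← map_mul, ← map_mul, e])
      rcases hdich b with h | h
      · exact (hmulS b b h l).trans (h l)
      · rw [hcomp, e', h]
        have h2 : φ (kk ⟨k', hk'⟩) = φ (kk l⁻¹) := by rw [← e', h]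
        calc φ (kk ⟨k', hk'⟩⁻¹)
            = φ (kk ⟨k', hk'⟩⁻¹) * (φ (kk l⁻¹) * φ (kk l)) := by
              rw [mul_comm (φ (kk l⁻¹)), hunit, mul_one]
          _ = φ (kk ⟨k', hk'⟩) * φ (kk ⟨k', hk'⟩⁻¹) * φ (kk l) := by rw [h2]; ring
          _ = φ (kk l) := by rw [hunit, one_mul]
    obtain ⟨m, hm⟩ := hAp ⟨a, ha⟩
    obtain ⟨j, hj⟩ := hodd.pow (n := m)
    set b : ↥A := ⟨a, ha⟩ with hb
    have hb2 : b = (b * b) ^ (j + 1) := by
      rw [← sq, ← pow_mul, show 2 * (j + 1) = p ^ m + 1 by omega, pow_succ, hm, one_mul]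
    have hpowS : ∀ i : ℕ, ∀ l, φ (σ ((b * b) ^ i) (kk l)) = φ (kk l) := by
      intro i
      induction i with
      | zero =>
        intro l
        rw [pow_zero]
        congr 1
        refine Subtype.ext ?_
        show ρ 1 * ρ (l : Γ) * ρ (1 : Γ)⁻¹ = ρ (l : Γ)
        simp
      | succ i ih =>
        intro l
        rw [pow_succ, hmulS _ _ (hsq b) l]
        exact ih l
    have := hpowS (j + 1) ⟨k, hk⟩
    rw [← hb2] at this
    exact Ideal.Quotient.eq.1 this
  -- fixed vectors form a `K`-submodule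
  intro a ha k hk
  obtain ⟨k', hk', e⟩ := hnorm a ha k hk
  have hFK : ∀ u ∈ Fix ρ A, ∀ l ∈ K, ρ l u ∈ Fix ρ A := by
    intro u hu l hl b hb
    have h1 := hsame u hu b hb l hl
    rw [map_mul, map_mul] at h1
    exact (conj_apply ρ b (ρ l) u (hu b hb)).symm.trans h1
  -- the differences act trivially on fixed vectors, and their images avoid them
  let D : Set Γ := {d | d ∈ K ∧ ∃ b ∈ A, ∃ l ∈ K, ρ d = ρ (b * l * b⁻¹) * ρ l⁻¹}
  set Dc : Subgroup Γ := Subgroup.closure D with hDc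
  have hDK : Dc ≤ K := (Subgroup.closure_le K).2 fun d hd => hd.1
  have hDfix : ∀ d ∈ Dc, ∀ u ∈ Fix ρ A, ρ d u = u := by
    intro d hd
    induction hd using Subgroup.closure_induction with
    | mem d hd =>
      obtain ⟨-, b, hb, l, hl, ed⟩ := hd
      intro u hu
      rw [ed]
      show ρ (b * l * b⁻¹) (ρ l⁻¹ u) = u
      rw [hsame _ (hFK u hu _ (inv_mem hl)) b hb l hl]
      exact DFunLike.congr_fun (rho_mul_inv ρ l) u
    | one => intro u _; rw [map_one]; rfl
    | mul x y _ _ hx hy =>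
      intro u hu
      rw [map_mul]
      show ρ x (ρ y u) = u
      rw [hy u hu, hx u hu]
    | inv x _ hx =>
      intro u hu
      conv_lhs => rw [← hx u hu]
      exact DFunLike.congr_fun (rho_inv_mul ρ x) u
  have hDconj : ∀ b ∈ A, ∀ d ∈ Dc, ∃ d' ∈ Dc, ρ (b * d * b⁻¹) = ρ d' := by
    intro b hb d hd
    induction hd using Subgroup.closure_induction with
    | mem d hd =>
      obtain ⟨hdK, c, hc, l, hl, ed⟩ := hd
      obtain ⟨d', hd', ed'⟩ := hnorm b hb d hdK
      obtain ⟨l', hl', el'⟩ := hnorm b hb l hl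
      refine ⟨d', Subgroup.subset_closure ⟨hd', c, hc, l', hl', ?_⟩, ed'⟩
      have ei : ρ l'⁻¹ = ρ (b * l * b⁻¹)⁻¹ := by
        calc ρ l'⁻¹ = ρ l'⁻¹ * (ρ (b * l * b⁻¹) * ρ (b * l * b⁻¹)⁻¹) := by
              rw [rho_mul_inv, mul_one]
          _ = _ := by rw [el', ← mul_assoc, rho_inv_mul, one_mul]
      rw [← ed', show b * d * b⁻¹ = b * (d * b⁻¹) by group, map_mul, map_mul, ed, ei,
        map_mul, map_mul, map_mul, map_mul, ← el']
      simp only [← map_mul]
      congr 1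
      have hcb := hA c hc b hb
      have hcb' : c⁻¹ * b⁻¹ = b⁻¹ * c⁻¹ := by rw [← mul_inv_rev, ← mul_inv_rev, hcb]
      calc b * (c * l * c⁻¹ * l⁻¹ * b⁻¹) = (b * c) * l * (c⁻¹ * b⁻¹) * (b * l⁻¹ * b⁻¹) := by
            group
        _ = (c * b) * l * (b⁻¹ * c⁻¹) * (b * l⁻¹ * b⁻¹) := by rw [hcb, hcb']
        _ = c * (b * l * b⁻¹) * c⁻¹ * (b * l * b⁻¹)⁻¹ := by group
    | one => exact ⟨1, one_mem _, by simp⟩
    | mul x y _ _ hx hy =>
      obtain ⟨x', hx', ex⟩ := hx
      obtain ⟨y', hy', ey⟩ := hy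
      refine ⟨x' * y', mul_mem hx' hy', ?_⟩
      rw [map_mul ρ x', ← ex, ← ey, ← map_mul]
      congr 1
      group
    | inv x _ hx =>
      obtain ⟨x', hx', ex⟩ := hx
      refine ⟨x'⁻¹, inv_mem hx', ?_⟩
      calc ρ (b * x⁻¹ * b⁻¹) = ρ (b * x⁻¹ * b⁻¹) * (ρ x' * ρ x'⁻¹) := by rw [rho_mul_inv, mul_one]
        _ = ρ (b * x⁻¹ * b⁻¹) * (ρ (b * x * b⁻¹) * ρ x'⁻¹) := by rw [ex]
        _ = _ := by
          rw [← mul_assoc, ← map_mul, show b * x⁻¹ * b⁻¹ * (b * x * b⁻¹) = 1 by group, map_one,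
            one_mul]
  let U : AddSubgroup V := AddSubgroup.closure {w | ∃ d ∈ Dc, ∃ v, w = ρ d v - v}
  have hUinv : ∀ b ∈ A, ∀ w ∈ U, ρ b w ∈ U := by
    intro b hb w hw
    induction hw using AddSubgroup.closure_induction with
    | mem w hw =>
      obtain ⟨d, hd, v, rfl⟩ := hw
      obtain ⟨d', hd', e'⟩ := hDconj b hb d hd
      refine AddSubgroup.subset_closure ⟨d', hd', ρ b v, ?_⟩
      rw [map_sub, ← e']
      congr 1
      show (ρ b * ρ d) v = (ρ (b * d * b⁻¹) * ρ b) v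
      rw [← map_mul, ← map_mul, show b * d * b⁻¹ * b = b * d by group]
    | zero => rw [map_zero]; exact zero_mem _
    | add x y _ _ hx hy => rw [map_add]; exact add_mem hx hy
    | neg x _ hx => rw [map_neg]; exact neg_mem hx
  haveI : Finite ↥Dc := Finite.of_injective _ (Subgroup.inclusion_injective hDK)
  haveI := Fintype.ofFinite ↥Dc
  have hU0 : ∀ w ∈ U, w = 0 := by
    by_contra hne
    push Not at hne
    obtain ⟨w₀, hw₀, hw₀'⟩ := hne
    obtain ⟨w, hwU, hw0, hwf⟩ := exists_minimal hV hAp hA U ⊥ hUinv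
      (fun h => hw₀' (AddSubgroup.mem_bot.1 (h hw₀)))
    have hwF : w ∈ Fix ρ A := fun b hb => sub_eq_zero.1 (AddSubgroup.mem_bot.1 (hwf b hb))
    let E : V →+ V :=
      { toFun := fun v => ∑ d : ↥Dc, ρ (d : Γ) v
        map_zero' := by simp
        map_add' := fun v v' => by simp [Finset.sum_add_distrib] }
    have hEU : ∀ x ∈ U, E x = 0 := by
      intro x hx
      induction hx using AddSubgroup.closure_induction with
      | mem x hx =>
        obtain ⟨d, hd, v, rfl⟩ := hx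
        rw [map_sub, sub_eq_zero]
        simp only [E, AddMonoidHom.coe_mk, ZeroHom.coe_mk]
        refine Fintype.sum_equiv (Equiv.mulRight (⟨d, hd⟩ : ↥Dc)) _ _ fun e => ?_
        show ρ (e : Γ) (ρ d v) = ρ ((e : Γ) * d) v
        rw [map_mul]; rfl
      | zero => exact map_zero _
      | add x y _ _ hx hy => rw [map_add, hx, hy, add_zero]
      | neg x _ hx => rw [map_neg, hx, neg_zero]
    have hEF : E w = Nat.card ↥Dc • w := by
      simp only [E, AddMonoidHom.coe_mk, ZeroHom.coe_mk]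
      rw [Finset.sum_congr rfl fun (d : ↥Dc) _ => hDfix (d : Γ) d.2 w hwF, Finset.sum_const,
        Finset.card_univ, Nat.card_eq_fintype_card]
    have h0 : Nat.card ↥Dc • w = 0 := hEF.symm.trans (hEU w hwU)
    have hcop : (Nat.card ↥Dc).Coprime p := Nat.Coprime.coprime_dvd_left (Subgroup.card_dvd_of_le hDK) hKp
    have h1 : addOrderOf w ∣ Nat.card ↥Dc := addOrderOf_dvd_of_nsmul_eq_zero h0
    have h2 : addOrderOf w ∣ p := addOrderOf_dvd_of_nsmul_eq_zero (hV w)
    exact hw0 (AddSubgroup.mem_bot.2 (AddMonoid.addOrderOf_eq_one_iff.1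
      (Nat.eq_one_of_dvd_coprimes hcop h1 h2)))
  have hd : k' * k⁻¹ ∈ Dc :=
    Subgroup.subset_closure ⟨mul_mem hk' (inv_mem hk), a, ha, k, hk, by rw [map_mul, ← e]⟩
  have h1 : ρ (k' * k⁻¹) = 1 := by
    ext v
    exact sub_eq_zero.1 (hU0 _ (AddSubgroup.subset_closure ⟨_, hd, v, rfl⟩))
  rw [e, show k' = k' * k⁻¹ * k by group, map_mul, h1, one_mul]

end CfsgLib.ThompsonAbelian
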