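import Cfsg.Agent.Lib.ThompsonAbelian.Algebra
import Cfsg.Agent.Lib.PLocal.Thompson

/-!
# Abelian subgroups of largest order centralise `K P / P` for `p ≥ 5`
-/

set_option autoImplicit false
set_option linter.unusedSectionVars false
set_option linter.style.haveILetI false
set_option linter.deprecated false

open Subgroup
open scoped commutatorElement

namespace CfsgLib.ThompsonAbelian

open CfsgLib.PLocal

universe u

variable {G : Type u} [Group G] [Finite G]

/-- The replacement equality: for `y` in an `A`-invariant abelian subgroup, every element of the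
subgroup generated by the commutators `[a, y]` is a single commutator modulo `A`. -/
theorem replacement {S A Y : Subgroup G} (hA : IsMaxElemIn 0 S A) (hYS : Y ≤ S)
    (hY : ∀ x ∈ Y, ∀ z ∈ Y, x * z = z * x) (hn : ∀ a ∈ A, ∀ z ∈ Y, a * z * a⁻¹ ∈ Y)
    {y : G} (hy : y ∈ Y) {m : G}
    (hm : m ∈ closure {z | ∃ a ∈ A, z = a * y * a⁻¹ * y⁻¹}) :
    ∃ a ∈ A, (a * y * a⁻¹ * y⁻¹)⁻¹ * m ∈ A := by
  classical
  have hAc : ∀ a ∈ A, ∀ b ∈ A, a * b = b * a := fun a ha b hb => elemAb_commute hA.elem ha hb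
  set f : G → G := fun a => a * y * a⁻¹ * y⁻¹ with hf
  set M : Subgroup G := closure {z | ∃ a ∈ A, z = f a} with hMdef
  have hfY : ∀ a ∈ A, f a ∈ Y := fun a ha => Y.mul_mem (hn a ha y hy) (Y.inv_mem hy)
  have hMY : M ≤ Y := (closure_le Y).2 fun z ⟨a, ha, e⟩ => e ▸ hfY a ha
  set C : Subgroup G := A ⊓ centralizer (M : Set G) with hCdef
  have hcomm : ∀ (m : ↥M) (c : ↥C), Commute (M.subtype m) (C.subtype c) := fun m c =>
    mem_centralizer_iff.1 c.2.2 m m.2
  set φ : ↥M × ↥C →* G := MonoidHom.noncommCoprod M.subtype C.subtype hcomm with hφ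
  have hrange : Nat.card φ.range ≤ Nat.card A := by
    refine hA.2.2 _ ?_ (elemAb_zero_iff.2 (isMulCommutative_of_forall ?_))
    · rintro _ ⟨⟨m, c⟩, rfl⟩
      exact S.mul_mem (hYS (hMY m.2)) (hA.le c.2.1)
    · rintro _ ⟨q, rfl⟩ _ ⟨r, rfl⟩
      rw [← map_mul, ← map_mul]
      congr 1
      ext
      · exact hY _ (hMY q.1.2) _ (hMY r.1.2)
      · exact hAc _ q.2.2.1 _ r.2.2.1
  have hkerle : Nat.card φ.ker ≤ Nat.card ↥(M ⊓ A) := by
    have hval : ∀ q : φ.ker, ((q.1.1 : G)) * (q.1.2 : G) = 1 := fun q => q.2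
    refine Nat.card_le_card_of_injective (fun q => ⟨q.1.1, q.1.1.2, ?_⟩) ?_
    · rw [eq_inv_of_mul_eq_one_left (hval q)]
      exact A.inv_mem q.1.2.2.1
    · intro q r h
      have h1 : (q.1.1 : G) = r.1.1 := by simpa using congrArg Subtype.val h
      have h2 := hval q
      rw [h1, ← hval r] at h2
      exact Subtype.ext (Prod.ext (Subtype.ext h1) (Subtype.ext (mul_left_cancel h2)))
  have hprod : Nat.card φ.range * Nat.card φ.ker = Nat.card ↥M * Nat.card ↥C := by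
    rw [← Nat.card_prod (↥M) (↥C), Subgroup.card_eq_card_quotient_mul_card_subgroup φ.ker,
      Nat.card_congr (QuotientGroup.quotientKerEquivRange φ).toEquiv]
  set C' := C.subgroupOf A with hC'
  set D' := (M ⊓ A).subgroupOf M with hD'
  have hA' : Nat.card A = Nat.card (↥A ⧸ C') * Nat.card C := by
    rw [Subgroup.card_eq_card_quotient_mul_card_subgroup C']
    congr 1
    exact Nat.card_congr (subgroupOfEquivOfLe inf_le_left).toEquiv
  have hM' : Nat.card M = Nat.card (↥M ⧸ D') * Nat.card ↥(M ⊓ A) := by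
    rw [Subgroup.card_eq_card_quotient_mul_card_subgroup D']
    congr 1
    exact Nat.card_congr (subgroupOfEquivOfLe inf_le_left).toEquiv
  have hle : Nat.card (↥M ⧸ D') ≤ Nat.card (↥A ⧸ C') := by
    have h1 : Nat.card (↥M ⧸ D') * Nat.card ↥(M ⊓ A) * Nat.card C ≤
        Nat.card (↥A ⧸ C') * Nat.card C * Nat.card ↥(M ⊓ A) := by
      rw [← hM', ← hA', ← hprod]
      exact Nat.mul_le_mul hrange hkerle
    rw [mul_right_comm (Nat.card (↥A ⧸ C'))] at h1
    exact Nat.le_of_mul_le_mul_right (Nat.le_of_mul_le_mul_right h1 Nat.card_pos) Nat.card_pos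
  have hfM : ∀ a ∈ A, f a ∈ M := fun a ha => subset_closure ⟨a, ha, rfl⟩
  let ψ : ↥A ⧸ C' → ↥M ⧸ D' := fun q =>
    QuotientGroup.mk (⟨f q.out, hfM _ q.out.2⟩ : ↥M)
  have hinj : Function.Injective ψ := by
    intro q r h
    rw [← QuotientGroup.out_eq' q, ← QuotientGroup.out_eq' r, QuotientGroup.eq]
    simp only [hC', mem_subgroupOf]
    have h0 : (f q.out)⁻¹ * f r.out ∈ M ⊓ A := by
      refine ⟨M.mul_mem (M.inv_mem (hfM _ q.out.2)) (hfM _ r.out.2), ?_⟩
      simpa [ψ, hD', QuotientGroup.eq, mem_subgroupOf] using h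
    set a' : G := ((q.out : ↥A) : G) with ha'
    set a : G := ((r.out : ↥A) : G) with ha
    have ha'A : a' ∈ A := q.out.2
    have haA : a ∈ A := r.out.2
    set d : G := a'⁻¹ * a with hd
    have hdA : d ∈ A := A.mul_mem (A.inv_mem ha'A) haA
    have hconjY : a' * f d * a'⁻¹ ∈ Y := hn a' ha'A _ (hfY d hdA)
    have e1 : f a = a' * f d * a'⁻¹ * f a' := by simp only [hf, hd]; group
    have e2 : a' * f d * a'⁻¹ = (f a')⁻¹ * f a := by
      have := hY _ hconjY _ (hfY a' ha'A)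
      rw [e1, this]; group
    have hfd : f d ∈ A := by
      have h4 : a' * f d * a'⁻¹ ∈ A := by rw [e2]; exact h0.2
      have h3 := A.mul_mem (A.mul_mem (A.inv_mem ha'A) h4) ha'A
      have e3 : a'⁻¹ * (a' * f d * a'⁻¹) * a' = f d := by group
      rwa [e3] at h3
    have hcen : ∀ a₁ ∈ A, f a₁ * d = d * f a₁ := by
      intro a₁ ha₁
      have e3 : a₁ * f d * a₁⁻¹ = f d := by rw [hAc a₁ ha₁ _ hfd, mul_inv_cancel_right]
      have e4 : f (a₁ * d) = f d * f a₁ := by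
        calc f (a₁ * d) = a₁ * f d * a₁⁻¹ * f a₁ := by simp only [hf]; group
          _ = _ := by rw [e3]
      have e5 : f (d * a₁) = d * f a₁ * d⁻¹ * f d := by simp only [hf]; group
      rw [hAc a₁ ha₁ d hdA] at e4
      rw [e5, hY _ (hfY d hdA) _ (hfY a₁ ha₁)] at e4
      exact (mul_inv_eq_iff_eq_mul.1 (mul_right_cancel e4)).symm
    refine ⟨hdA, ?_⟩
    show d ∈ centralizer (M : Set G)
    rw [hMdef, centralizer_closure, mem_centralizer_iff]
    rintro z ⟨a₁, ha₁, rfl⟩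
    exact hcen a₁ ha₁
  have hsurj : Function.Surjective ψ :=
    (hinj.bijective_of_nat_card_le hle).2
  obtain ⟨q, hq⟩ := hsurj (QuotientGroup.mk (⟨m, hm⟩ : ↥M))
  refine ⟨q.out, q.out.2, ?_⟩
  simp only [ψ, QuotientGroup.eq, hD', mem_subgroupOf] at hq
  exact hq.2

theorem commutator_lt {p : ℕ} [Fact p.Prime] {P X : Subgroup G} (hP : IsPGroup p P) (hXP : X ≤ P)
    (hX : X ≠ ⊥) : ⁅X, P⁆ ≠ X := by
  intro he
  haveI : Group.IsNilpotent ↥P := hP.isNilpotent
  have hall : ∀ n, X ≤ Subgroup.lowerCentralSeries P n := by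
    intro n
    induction n with
    | zero => exact hXP
    | succ n ih =>
      rw [← he, Subgroup.lowerCentralSeries_succ]
      exact commutator_mono ih le_rfl
  obtain ⟨n, hn⟩ := (Subgroup.isNilpotent_iff_lowerCentralSeries P).1
    (inferInstance : Group.IsNilpotent ↥P)
  exact hX (le_bot_iff.1 ((hall n).trans hn.le))

theorem eq_one_of_commute_commutator {p : ℕ} [Fact p.Prime] {X K : Subgroup G} (hX : IsPGroup p X)
    (hXn : ∀ g : G, ∀ x ∈ X, g * x * g⁻¹ ∈ X)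
    (hKp : (Nat.card K).Coprime p) {k x : G} (hk : k ∈ K) (hx : x ∈ X)
    (hc : Commute k (k * x * k⁻¹ * x⁻¹)) : k * x * k⁻¹ * x⁻¹ = 1 := by
  set c := k * x * k⁻¹ * x⁻¹ with hcdef
  have hcX : c ∈ X := X.mul_mem (hXn k x hx) (X.inv_mem hx)
  have hj : ∀ j : ℕ, k ^ j * x * (k ^ j)⁻¹ = c ^ j * x := by
    intro j
    induction j with
    | zero => simp
    | succ j ih =>
      have hkc : k * c ^ j = c ^ j * k := (hc.pow_right j).eq
      calc k ^ (j + 1) * x * (k ^ (j + 1))⁻¹ = k * (k ^ j * x * (k ^ j)⁻¹) * k⁻¹ := by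
            rw [pow_succ']; group
        _ = k * c ^ j * x * k⁻¹ := by rw [ih]; group
        _ = c ^ j * (k * x * k⁻¹ * x⁻¹) * x := by rw [hkc]; group
        _ = c ^ (j + 1) * x := by rw [← hcdef, pow_succ]
  have h1 := hj (Nat.card K)
  have hk1 : k ^ Nat.card K = 1 := congrArg Subtype.val (pow_card_eq_one' (x := (⟨k, hk⟩ : K)))
  rw [hk1] at h1
  have hc1 : c ^ Nat.card K = 1 := by simpa using h1.symm
  obtain ⟨i, hi⟩ := hX ⟨c, hcX⟩
  have hi' : c ^ p ^ i = 1 := congrArg Subtype.val hi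
  have := Nat.eq_one_of_dvd_coprimes (Nat.Coprime.pow_right i hKp) (orderOf_dvd_of_pow_eq_one hc1)
    (orderOf_dvd_of_pow_eq_one hi')
  exact orderOf_eq_one_iff.1 this

/-- The main lemma. -/
theorem conj_mem_of_isMaxElemIn {p : ℕ} [Fact p.Prime] (hp : 5 ≤ p) {P S K A : Subgroup G}
    [hPn : P.Normal] (hPS : P ≤ S) (hS : IsPGroup p S)
    (hKc : ∀ k ∈ K, ∀ l ∈ K, k * l = l * k) (hKp : (Nat.card K).Coprime p)
    (hKN : ∀ g : G, ∀ k ∈ K, g * k * g⁻¹ ∈ P ⊔ K)
    (hmin : ∀ L ≤ K, (∀ g : G, ∀ l ∈ L, g * l * g⁻¹ ∈ P ⊔ L) → L = ⊥ ∨ L = K)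
    (hPK : ¬ P ≤ centralizer (K : Set G)) (hA : IsMaxElemIn 0 S A) :
    ∀ a ∈ A, ∀ k ∈ K, a * k * a⁻¹ * k⁻¹ ∈ P := by
  classical
  have hp' : p.Prime := Fact.out
  have hPp : IsPGroup p P := hS.to_le hPS
  have hdec : ∀ g : G, ∀ k ∈ K, ∃ π ∈ P, ∃ k' ∈ K, g * k * g⁻¹ = π * k' := by
    intro g k hk
    obtain ⟨π, hπ, k', hk', e⟩ := Subgroup.mem_sup_of_normal_left.1 (hKN g k hk)
    exact ⟨π, hπ, k', hk', e.symm⟩
  obtain ⟨X, ⟨hXn, hXP, hXK⟩, hXmin⟩ := Set.Finite.exists_minimal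
    (s := {X : Subgroup G | X.Normal ∧ X ≤ P ∧ ¬ X ≤ centralizer (K : Set G)})
    (Set.toFinite _) ⟨P, hPn, le_rfl, hPK⟩
  haveI := hXn
  have hXc : ∀ g : G, ∀ x ∈ X, g * x * g⁻¹ ∈ X := fun g x hx => hXn.conj_mem x hx g
  have hXp : IsPGroup p X := hPp.to_le hXP
  have hsmall : ∀ Y : Subgroup G, Y.Normal → Y ≤ X → Y ≠ X → Y ≤ centralizer (K : Set G) := by
    intro Y hYn hYX hne
    by_contra hc
    exact hne (le_antisymm hYX (hXmin ⟨hYn, hYX.trans hXP, hc⟩ hYX))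
  set X0 : Subgroup G := (X ⊓ centralizer (K : Set G)).normalCore with hX0
  have hX0X : X0 ≤ X := (normalCore_le _).trans inf_le_left
  have hX0K : X0 ≤ centralizer (K : Set G) := (normalCore_le _).trans inf_le_right
  have hX0c : ∀ g : G, ∀ x ∈ X0, g * x * g⁻¹ ∈ X0 := fun g x hx =>
    (Subgroup.normalCore_normal _).conj_mem x hx g
  have hin0 : ∀ Y : Subgroup G, Y.Normal → Y ≤ X → Y ≠ X → Y ≤ X0 := fun Y hYn hYX hne => by
    haveI := hYn
    exact Subgroup.normal_le_normalCore.2 (le_inf hYX (hsmall Y hYn hYX hne))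
  have hXne : X ≠ ⊥ := fun h => hXK (h ▸ bot_le)
  set D : Subgroup G := ⁅X, P⁆ with hD
  have hDn : D.Normal := inferInstance
  have hDX : D ≤ X := commutator_le_left X P
  have hDne : D ≠ X := commutator_lt hPp hXP hXne
  have hD0 : D ≤ X0 := hin0 D hDn hDX hDne
  -- elements of `P` act trivially on the section
  have hPtriv : ∀ π ∈ P, ∀ x ∈ X, π * x * π⁻¹ * x⁻¹ ∈ X0 := by
    intro π hπ x hx
    have h := hD0 (commutator_mem_commutator hx hπ)
    have e : π * x * π⁻¹ * x⁻¹ = ⁅x, π⁆⁻¹ := by simp only [commutatorElement_def]; group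
    rw [e]; exact inv_mem h
  have hXX : ∀ x ∈ X, ∀ y ∈ X, x * y * x⁻¹ * y⁻¹ ∈ X0 := fun x hx y hy =>
    hPtriv x (hXP hx) y hy
  -- exponent `p`
  have hexp : ∀ x ∈ X, x ^ p ∈ X0 := by
    set W : Subgroup G := closure ((D : Set G) ∪ {z | ∃ y ∈ X, z = y ^ p}) with hW
    have hWX : W ≤ X := (closure_le X).2 (by
      rintro z (hz | ⟨y, hy, rfl⟩)
      · exact hDX hz
      · exact X.pow_mem hy p)
    have hWn : W.Normal := by
      refine ⟨fun z hz g => ?_⟩
      induction hz using closure_induction with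
      | mem z hz =>
        rcases hz with hz | ⟨y, hy, rfl⟩
        · exact subset_closure (Or.inl (hDn.conj_mem z hz g))
        · exact subset_closure (Or.inr ⟨g * y * g⁻¹, hXc g y hy, by rw [conj_pow]⟩)
      | one => simp
      | mul a b _ _ ha hb =>
        have e : g * (a * b) * g⁻¹ = g * a * g⁻¹ * (g * b * g⁻¹) := by group
        rw [e]; exact W.mul_mem ha hb
      | inv a _ ha =>
        have e : g * a⁻¹ * g⁻¹ = (g * a * g⁻¹)⁻¹ := by group
        rw [e]; exact W.inv_mem ha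
    haveI := hDn
    set π := QuotientGroup.mk' D with hπ
    have hcom : ∀ x ∈ X, ∀ y ∈ X, π x * π y = π y * π x := by
      intro x hx y hy
      rw [← map_mul, ← map_mul]
      refine (QuotientGroup.eq.2 ?_)
      have h := commutator_mem_commutator (H₁ := X) (H₂ := P) (inv_mem hy) (inv_mem (hXP hx))
      have e : (x * y)⁻¹ * (y * x) = ⁅y⁻¹, x⁻¹⁆ := by simp only [commutatorElement_def]; group
      rw [e]; exact h
    have hWimg : ∀ z ∈ W, ∃ y ∈ X, π z = π y ^ p := by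
      intro z hz
      induction hz using closure_induction with
      | mem z hz =>
        rcases hz with hz | ⟨y, hy, rfl⟩
        · exact ⟨1, X.one_mem, by rw [map_one, one_pow]; exact (QuotientGroup.eq_one_iff z).2 hz⟩
        · exact ⟨y, hy, map_pow π y p⟩
      | one => exact ⟨1, X.one_mem, by simp⟩
      | mul a b _ _ ha hb =>
        obtain ⟨y, hy, ey⟩ := ha
        obtain ⟨z, hz, ez⟩ := hb
        exact ⟨y * z, X.mul_mem hy hz, by
          rw [map_mul, map_mul, ey, ez, Commute.mul_pow (hcom y hy z hz)]⟩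
      | inv a _ ha =>
        obtain ⟨y, hy, ey⟩ := ha
        exact ⟨y⁻¹, X.inv_mem hy, by rw [map_inv, map_inv, ey, inv_pow]⟩
    have hWne : W ≠ X := by
      intro he
      refine hDne (le_antisymm hDX fun x hx => ?_)
      have hall : ∀ i : ℕ, ∀ x ∈ X, ∃ y ∈ X, π x = π y ^ p ^ i := by
        intro i
        induction i with
        | zero => exact fun x hx => ⟨x, hx, by simp⟩
        | succ i ih =>
          intro x hx
          obtain ⟨y, hy, ey⟩ := ih x hx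
          obtain ⟨z, hz, ez⟩ := hWimg y (he.symm ▸ hy)
          exact ⟨z, hz, by rw [ey, ez, ← pow_mul, pow_succ']⟩
      obtain ⟨m, hm⟩ := IsPGroup.iff_card.1 hXp
      obtain ⟨y, hy, ey⟩ := hall m x hx
      have : y ^ p ^ m = 1 := by
        rw [← hm]
        exact congrArg Subtype.val (pow_card_eq_one' (x := (⟨y, hy⟩ : X)))
      rw [← map_pow, this, map_one] at ey
      exact (QuotientGroup.eq_one_iff x).1 ey
    exact fun x hx => hin0 W hWn hWX hWne (subset_closure (Or.inr ⟨x, hx, rfl⟩))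
  -- `X0` is central in `X`
  have hX0K' : ∀ z ∈ X0, ∀ k ∈ K, k * z * k⁻¹ = z := fun z hz k hk => by
    rw [mem_centralizer_iff.1 (hX0K hz) k hk, mul_inv_cancel_right]
  have hX0cen : ∀ z ∈ X0, ∀ x ∈ X, x * z = z * x := by
    suffices h : X ≤ centralizer (X0 : Set G) from fun z hz x hx =>
      (mem_centralizer_iff.1 (h hx) z hz).symm
    set T := X ⊓ centralizer (X0 : Set G) with hT
    haveI : X0.Normal := Subgroup.normalCore_normal _
    by_contra hne
    have hTne : T ≠ X := fun h => hne (h.symm.le.trans inf_le_right)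
    have hTK := hsmall T inferInstance inf_le_left hTne
    apply hXK
    intro x hx
    rw [mem_centralizer_iff]
    intro k hk
    have hu : k * x * k⁻¹ * x⁻¹ ∈ T := by
      refine ⟨X.mul_mem (hXc k x hx) (X.inv_mem hx), mem_centralizer_iff.2 fun z hz => ?_⟩
      have hy : x⁻¹ * z * x ∈ X0 := by simpa using hX0c x⁻¹ z hz
      have hy' := hX0K' _ hy k⁻¹ (K.inv_mem hk)
      rw [inv_inv] at hy'
      have hz' := hX0K' z hz k hk
      have : k * x * k⁻¹ * x⁻¹ * z * (k * x * k⁻¹ * x⁻¹)⁻¹ = z := by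
        calc k * x * k⁻¹ * x⁻¹ * z * (k * x * k⁻¹ * x⁻¹)⁻¹
            = k * (x * (k⁻¹ * (x⁻¹ * z * x) * k) * x⁻¹) * k⁻¹ := by group
          _ = k * (x * (x⁻¹ * z * x) * x⁻¹) * k⁻¹ := by rw [hy']
          _ = k * z * k⁻¹ := by group
          _ = z := hz'
      exact (mul_inv_eq_iff_eq_mul.1 this).symm
    have h1 := eq_one_of_commute_commutator hXp hXc hKp hk hx
      (mem_centralizer_iff.1 (hTK hu) k hk)
    have h2 := mul_inv_eq_one.1 h1
    exact mul_inv_eq_iff_eq_mul.1 h2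
  -- the kernel of `K` on the section is trivial
  let L : Subgroup G :=
    { carrier := {k | k ∈ K ∧ ∀ x ∈ X, k * x * k⁻¹ * x⁻¹ ∈ X0}
      one_mem' := ⟨K.one_mem, fun x _ => by simp⟩
      mul_mem' := by
        rintro k l ⟨hk, hk'⟩ ⟨hl, hl'⟩
        refine ⟨K.mul_mem hk hl, fun x hx => ?_⟩
        have e : k * l * x * (k * l)⁻¹ * x⁻¹ =
            k * (l * x * l⁻¹ * x⁻¹) * k⁻¹ * (k * x * k⁻¹ * x⁻¹) := by group
        rw [e]; exact X0.mul_mem (hX0c k _ (hl' x hx)) (hk' x hx)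
      inv_mem' := by
        rintro k ⟨hk, hk'⟩
        refine ⟨K.inv_mem hk, fun x hx => ?_⟩
        have h := hk' (k⁻¹ * x * k) (by simpa using hXc k⁻¹ x hx)
        have e : k⁻¹ * x * k⁻¹⁻¹ * x⁻¹ = (k * (k⁻¹ * x * k) * k⁻¹ * (k⁻¹ * x * k)⁻¹)⁻¹ := by group
        rw [e]; exact X0.inv_mem h }
  have hLbot : L = ⊥ := by
    refine (hmin L (fun k hk => hk.1) ?_).resolve_right ?_
    · intro g l hl
      obtain ⟨π, hπ, k', hk', e⟩ := hdec g l hl.1
      rw [e]
      refine mul_mem_sup hπ ⟨hk', fun x hx => ?_⟩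
      have hk'e : k' = π⁻¹ * (g * l * g⁻¹) := by rw [e]; group
      have h1 : g * (l * (g⁻¹ * x * g) * l⁻¹ * (g⁻¹ * x * g)⁻¹) * g⁻¹ ∈ X0 :=
        hX0c g _ (hl.2 _ (by simpa using hXc g⁻¹ x hx))
      have hy : g * l * g⁻¹ * x * (g * l * g⁻¹)⁻¹ ∈ X := hXc _ x hx
      have h2 := hPtriv π⁻¹ (inv_mem hπ) _ hy
      have e2 : k' * x * k'⁻¹ * x⁻¹ =
          (π⁻¹ * (g * l * g⁻¹ * x * (g * l * g⁻¹)⁻¹) * π⁻¹⁻¹ *
            (g * l * g⁻¹ * x * (g * l * g⁻¹)⁻¹)⁻¹) *
          (g * (l * (g⁻¹ * x * g) * l⁻¹ * (g⁻¹ * x * g)⁻¹) * g⁻¹) := by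
        rw [hk'e]; group
      rw [e2]; exact X0.mul_mem h2 h1
    · intro hLK
      apply hXK
      intro x hx
      rw [mem_centralizer_iff]
      intro k hk
      have hk' : k ∈ L := hLK.symm ▸ (hk : k ∈ K)
      have hc := hk'.2 x hx
      have h1 := eq_one_of_commute_commutator hXp hXc hKp hk hx
        (mem_centralizer_iff.1 (hX0K hc) k hk)
      exact mul_inv_eq_iff_eq_mul.1 (mul_inv_eq_one.1 h1)
  -- the module
  haveI : X0.Normal := Subgroup.normalCore_normal _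
  haveI hN : (X0.subgroupOf X).Normal := inferInstance
  let cl : ↥X → Additive (↥X ⧸ X0.subgroupOf X) := fun x => Additive.ofMul (QuotientGroup.mk x)
  letI : CommGroup (↥X ⧸ X0.subgroupOf X) :=
    { (inferInstance : Group (↥X ⧸ X0.subgroupOf X)) with
      mul_comm := by
        intro q r
        obtain ⟨x, rfl⟩ := QuotientGroup.mk_surjective q
        obtain ⟨y, rfl⟩ := QuotientGroup.mk_surjective r
        rw [← QuotientGroup.mk_mul, ← QuotientGroup.mk_mul, QuotientGroup.eq, mem_subgroupOf]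
        have h := hXX (y : G)⁻¹ (inv_mem y.2) (x : G)⁻¹ (inv_mem x.2)
        simpa [mul_assoc] using h }
  let V := Additive (↥X ⧸ X0.subgroupOf X)
  let qmap : G → (↥X ⧸ X0.subgroupOf X) →* (↥X ⧸ X0.subgroupOf X) := fun g =>
    QuotientGroup.map _ _ (MulAut.conjNormal g : MulAut ↥X).toMonoidHom (by
      intro x hx
      rw [mem_comap, mem_subgroupOf]
      have : ((MulAut.conjNormal g x : ↥X) : G) ∈ X0 := by
        rw [MulAut.conjNormal_apply]; exact hX0c g _ hx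
      exact this)
  let ρ : G →* AddMonoid.End V :=
    { toFun := fun g => MonoidHom.toAdditive (qmap g)
      map_one' := by
        refine AddMonoidHom.ext fun v => ?_
        obtain ⟨x, hx⟩ := QuotientGroup.mk_surjective (Additive.toMul v)
        have hv : v = cl x := by simp only [cl]; rw [hx]; rfl
        subst hv
        show Additive.ofMul (qmap 1 (QuotientGroup.mk x)) = cl x
        simp [cl, qmap]
      map_mul' := by
        intro g h
        refine AddMonoidHom.ext fun v => ?_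
        obtain ⟨x, hx⟩ := QuotientGroup.mk_surjective (Additive.toMul v)
        have hv : v = cl x := by simp only [cl]; rw [hx]; rfl
        subst hv
        show Additive.ofMul (qmap (g * h) (QuotientGroup.mk x)) =
          Additive.ofMul (qmap g (qmap h (QuotientGroup.mk x)))
        simp [qmap] }
  have hρ : ∀ (g : G) (x : ↥X), ρ g (cl x) = cl ⟨g * x * g⁻¹, hXc g x x.2⟩ := by
    intro g x
    show Additive.ofMul (qmap g (QuotientGroup.mk x)) = _
    simp only [cl, qmap, QuotientGroup.map_mk]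
    exact congrArg (fun t : ↥X => Additive.ofMul (QuotientGroup.mk t)) (Subtype.ext (by simp))
  have hcleq : ∀ x y : ↥X, cl x = cl y ↔ (x : G)⁻¹ * y ∈ X0 := by
    intro x y
    simp only [cl, EmbeddingLike.apply_eq_iff_eq, QuotientGroup.eq, mem_subgroupOf]
    simp
  have hsurj : ∀ v : V, ∃ x : ↥X, cl x = v := fun v => by
    obtain ⟨x, hx⟩ := QuotientGroup.mk_surjective (Additive.toMul v)
    exact ⟨x, by simp only [cl]; rw [hx]; rfl⟩
  have hcladd : ∀ x y : ↥X, cl (x * y) = cl x + cl y := fun x y => rfl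
  have hV : ∀ v : V, p • v = 0 := by
    intro v
    obtain ⟨x, rfl⟩ := hsurj v
    show Additive.ofMul ((QuotientGroup.mk x : ↥X ⧸ X0.subgroupOf X) ^ p) = 0
    rw [← QuotientGroup.mk_pow, (QuotientGroup.eq_one_iff (x ^ p)).2 (by
      rw [mem_subgroupOf]; exact hexp x x.2)]
    rfl
  have hρP : ∀ π ∈ P, ρ π = 1 := by
    intro π hπ
    refine AddMonoidHom.ext fun v => ?_
    obtain ⟨x, rfl⟩ := hsurj v
    show ρ π (cl x) = cl x
    rw [hρ, hcleq]
    have h := X0.inv_mem (hX0c (x : G)⁻¹ _ (hPtriv π hπ x x.2))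
    simpa [mul_assoc] using h
  have hnorm : ∀ a ∈ A, ∀ k ∈ K, ∃ k' ∈ K, ρ (a * k * a⁻¹) = ρ k' := by
    intro a _ k hk
    obtain ⟨π, hπ, k', hk', e⟩ := hdec a k hk
    exact ⟨k', hk', by rw [e, map_mul, hρP π hπ, one_mul]⟩
  have hAp : IsPGroup p A := hS.to_le hA.le
  have hAc : ∀ a ∈ A, ∀ b ∈ A, a * b = b * a := fun a ha b hb => elemAb_commute hA.elem ha hb
  -- the commutator pairing
  let bet : V → V → G := fun v w =>
    ((hsurj v).choose : G) * (hsurj w).choose * ((hsurj v).choose : G)⁻¹ * ((hsurj w).choose : G)⁻¹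
  have hbet : ∀ x y : ↥X, bet (cl x) (cl y) = (x : G) * y * (x : G)⁻¹ * (y : G)⁻¹ := by
    intro x y
    have h1 := (hcleq _ _).1 (hsurj (cl x)).choose_spec.symm
    have h2 := (hcleq _ _).1 (hsurj (cl y)).choose_spec.symm
    show ((hsurj (cl x)).choose : G) * (hsurj (cl y)).choose * ((hsurj (cl x)).choose : G)⁻¹ *
      ((hsurj (cl y)).choose : G)⁻¹ = _
    set x' : ↥X := (hsurj (cl x)).choose
    set y' : ↥X := (hsurj (cl y)).choose
    obtain ⟨z, hz, hx'⟩ : ∃ z ∈ X0, (x' : G) = (x : G) * z := ⟨_, h1, by group⟩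
    obtain ⟨w, hw, hy'⟩ : ∃ w ∈ X0, (y' : G) = (y : G) * w := ⟨_, h2, by group⟩
    rw [hx', hy']
    have c1 := hX0cen z hz _ (X.mul_mem y.2 (hX0X hw))
    have c2 := hX0cen w hw _ (X.inv_mem x.2)
    calc (x : G) * z * (y * w) * ((x : G) * z)⁻¹ * ((y : G) * w)⁻¹
        = (x : G) * (z * (y * w)) * z⁻¹ * (x : G)⁻¹ * (w⁻¹ * (y : G)⁻¹) := by group
      _ = (x : G) * (y * w * z) * z⁻¹ * (x : G)⁻¹ * (w⁻¹ * (y : G)⁻¹) := by rw [c1]
      _ = (x : G) * y * (w * (x : G)⁻¹) * w⁻¹ * (y : G)⁻¹ := by group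
      _ = (x : G) * y * ((x : G)⁻¹ * w) * w⁻¹ * (y : G)⁻¹ := by rw [c2]
      _ = _ := by group
  have hadd_left : ∀ u v w, bet (u + v) w = bet u w * bet v w := by
    intro u v w
    obtain ⟨x, rfl⟩ := hsurj u
    obtain ⟨y, rfl⟩ := hsurj v
    obtain ⟨z, rfl⟩ := hsurj w
    rw [← hcladd, hbet, hbet, hbet]
    push_cast
    have h1 := hXX y y.2 z z.2
    have h2 := hX0cen _ h1 x x.2
    have h3 := hX0cen _ h1 _ (hX0X (hXX x x.2 z z.2))
    calc (x : G) * y * z * ((x : G) * y)⁻¹ * (z : G)⁻¹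
        = (x : G) * ((y : G) * z * (y : G)⁻¹ * (z : G)⁻¹) * (z * (x : G)⁻¹ * (z : G)⁻¹) := by group
      _ = (y : G) * z * (y : G)⁻¹ * (z : G)⁻¹ * (x : G) * (z * (x : G)⁻¹ * (z : G)⁻¹) := by rw [h2]
      _ = (y : G) * z * (y : G)⁻¹ * (z : G)⁻¹ * ((x : G) * z * (x : G)⁻¹ * (z : G)⁻¹) := by group
      _ = _ := by rw [h3]
  have hanti : ∀ v w, bet w v = (bet v w)⁻¹ := by
    intro v w
    obtain ⟨x, rfl⟩ := hsurj v
    obtain ⟨y, rfl⟩ := hsurj w
    rw [hbet, hbet]; group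
  have hmem0 : ∀ v w, bet v w ∈ X0 := fun v w => hXX _ (hsurj v).choose.2 _ (hsurj w).choose.2
  have hadd_right : ∀ u v w, bet w (u + v) = bet w u * bet w v := by
    intro u v w
    rw [hanti (u + v) w, hadd_left, mul_inv_rev, ← hanti u w, ← hanti v w]
    exact hX0cen _ (hmem0 w u) _ (hX0X (hmem0 w v))
  have hzero : ∀ w, bet 0 w = 1 ∧ bet w 0 = 1 := by
    intro w
    have h := hadd_left 0 0 w
    rw [add_zero, left_eq_mul] at h
    exact ⟨h, by rw [hanti, h, inv_one]⟩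
  have hKadj : ∀ k ∈ K, ∀ v w, bet (ρ k v) w = bet v (ρ k⁻¹ w) := by
    intro k hk v w
    obtain ⟨x, rfl⟩ := hsurj v
    obtain ⟨y, rfl⟩ := hsurj w
    rw [hρ, hρ, hbet, hbet]
    have hy2 : k⁻¹ * (y : G) * k⁻¹⁻¹ ∈ X := hXc _ _ y.2
    have h := hX0K' _ (hXX x x.2 _ hy2) k hk
    calc k * (x : G) * k⁻¹ * y * (k * (x : G) * k⁻¹)⁻¹ * (y : G)⁻¹
        = k * ((x : G) * (k⁻¹ * y * k⁻¹⁻¹) * (x : G)⁻¹ * (k⁻¹ * y * k⁻¹⁻¹)⁻¹) * k⁻¹ := by group
      _ = _ := h
  have hfullc : ∀ r ∈ full ρ K, ∀ s ∈ full ρ K, r * s = s * r := by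
    have hcomm : ∀ x ∈ ρ '' (K : Set G), ∀ y ∈ ρ '' (K : Set G), x * y = y * x := by
      rintro _ ⟨k, hk, rfl⟩ _ ⟨l, hl, rfl⟩
      rw [← map_mul, hKc k hk l hl, map_mul]
    haveI := Subring.isMulCommutative_closure hcomm
    exact fun r hr s hs => setLike_mul_comm hr hs
  have hSA : ∀ r ∈ sym ρ K, ∀ v w, bet (r v) w = bet v (r w) := by
    intro r hr
    induction hr using Subring.closure_induction with
    | mem r hr =>
      obtain ⟨k, hk, rfl⟩ := hr
      intro v w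
      show bet (ρ k v + ρ k⁻¹ v) w = bet v (ρ k w + ρ k⁻¹ w)
      rw [hadd_left, hadd_right, hKadj k hk, hKadj k⁻¹ (inv_mem hk), inv_inv]
      exact hX0cen _ (hmem0 _ _) _ (hX0X (hmem0 _ _))
    | zero => intro v w; show bet 0 w = bet v 0; rw [(hzero w).1, (hzero v).2]
    | one => intro v w; rfl
    | add r s _ _ hr hs =>
      intro v w
      show bet (r v + s v) w = bet v (r w + s w)
      rw [hadd_left, hadd_right, hr, hs]
    | neg r _ hr =>
      intro v w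
      show bet (-(r v)) w = bet v (-(r w))
      have e1 := hadd_left (-(r v)) (r v) w
      have e2 := hadd_right (-(r w)) (r w) v
      rw [neg_add_cancel, (hzero w).1, hr] at e1
      rw [neg_add_cancel, (hzero v).2] at e2
      exact mul_right_cancel (e1.symm.trans e2)
    | mul r s hr' hs' hr hs =>
      intro v w
      show bet (r (s v)) w = bet v (r (s w))
      rw [hr, hs]
      exact congrArg (bet v)
        (DFunLike.congr_fun (hfullc s (sym_le_full ρ K hs') r (sym_le_full ρ K hr')) w)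
  have hiso : ∀ u, ∀ r ∈ sym ρ K, ∀ s ∈ sym ρ K, bet (r u) (s u) = 1 := by
    intro u r hr s hs
    rw [hSA r hr]
    show bet u ((r * s) u) = 1
    set t := bet u ((r * s) u) with ht
    have h1 : t = t⁻¹ := by
      conv_rhs => rw [ht, ← hanti]
      rw [hSA (r * s) (mul_mem hr hs)]
    have h2 : t ^ 2 = 1 := by rw [sq]; exact eq_inv_iff_mul_eq_one.1 h1
    obtain ⟨m, hm⟩ := hXp ⟨t, hX0X (hmem0 _ _)⟩
    have hm' : t ^ p ^ m = 1 := congrArg Subtype.val hm
    have hcop : Nat.Coprime 2 (p ^ m) :=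
      Nat.Coprime.pow_right m ((Nat.coprime_primes Nat.prime_two hp').2 (by omega))
    exact orderOf_eq_one_iff.1 (Nat.eq_one_of_dvd_coprimes hcop (orderOf_dvd_of_pow_eq_one h2)
      (orderOf_dvd_of_pow_eq_one hm'))
  have hsymconj : ∀ a ∈ A, ∀ r ∈ sym ρ K, ρ a * r * ρ a⁻¹ ∈ sym ρ K := by
    intro a ha r hr
    refine conj_mem_of _ a ?_ hr
    rintro _ ⟨k, hk, rfl⟩
    obtain ⟨π, hπ, k', hk', e⟩ := hdec a k hk
    have e1 : ρ (a * k * a⁻¹) = ρ k' := by rw [e, map_mul, hρP π hπ, one_mul]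
    have e2 : ρ (a * k⁻¹ * a⁻¹) = ρ k'⁻¹ := by
      rw [show a * k⁻¹ * a⁻¹ = k'⁻¹ * π⁻¹ by rw [← mul_inv_rev, ← e]; group, map_mul,
        hρP _ (inv_mem hπ), mul_one]
    refine Subring.subset_closure ⟨k', hk', ?_⟩
    rw [mul_add, add_mul, ← map_mul, ← map_mul, ← map_mul, ← map_mul, e1, e2]
  have hconc := conj_eq_of_key (ρ := ρ) (K := K) (A := A) hp hV hAp hAc hKc hKp hnorm (by
    intro u hu r hr a ha
    let Y : Subgroup G :=
      { carrier := {g | ∃ x : ↥X, (x : G) = g ∧ ∃ s ∈ sym ρ K, cl x = s u}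
        one_mem' := ⟨1, rfl, 0, zero_mem _, rfl⟩
        mul_mem' := by
          rintro _ _ ⟨x, rfl, s, hs, ex⟩ ⟨y, rfl, t, ht, ey⟩
          exact ⟨x * y, rfl, s + t, add_mem hs ht, by rw [hcladd, ex, ey]; rfl⟩
        inv_mem' := by
          rintro _ ⟨x, rfl, s, hs, ex⟩
          refine ⟨x⁻¹, rfl, -s, neg_mem hs, ?_⟩
          show -(cl x) = -(s u)
          rw [ex] }
    have hYX : Y ≤ X := by
      rintro _ ⟨x, rfl, -⟩
      exact x.2
    have hYc : ∀ g ∈ Y, ∀ h ∈ Y, g * h = h * g := by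
      rintro _ ⟨x, rfl, s, hs, ex⟩ _ ⟨y, rfl, t, ht, ey⟩
      have h := hiso u s hs t ht
      rw [← ex, ← ey, hbet] at h
      exact mul_inv_eq_iff_eq_mul.1 (mul_inv_eq_one.1 h)
    have hYn : ∀ b ∈ A, ∀ g ∈ Y, b * g * b⁻¹ ∈ Y := by
      rintro b hb _ ⟨x, rfl, s, hs, ex⟩
      refine ⟨⟨b * x * b⁻¹, hXc b x x.2⟩, rfl, _, hsymconj b hb s hs, ?_⟩
      rw [conj_apply ρ b s u (hu b hb), ← ex, hρ]
    obtain ⟨y, hy⟩ := hsurj (r u)
    have hyY : (y : G) ∈ Y := ⟨y, rfl, r, hr, hy⟩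
    set M := closure {z | ∃ a ∈ A, z = a * (y : G) * a⁻¹ * (y : G)⁻¹} with hM
    have hMX : M ≤ X := (closure_le X).2 fun z ⟨b, _, e⟩ =>
      e ▸ X.mul_mem (hXc b y y.2) (X.inv_mem y.2)
    set f : G → ↥X := fun b =>
      ⟨b * y * b⁻¹ * (y : G)⁻¹, X.mul_mem (hXc b y y.2) (X.inv_mem y.2)⟩ with hf
    have hclf : ∀ b, cl (f b) = ρ b (r u) - r u := by
      intro b
      rw [← hy, hρ, sub_eq_add_neg, show -cl y = cl y⁻¹ from rfl, ← hcladd]
      exact congrArg cl (Subtype.ext rfl)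
    have hfM : ∀ b ∈ A, (f b : G) ∈ M := fun b hb => subset_closure ⟨b, hb, rfl⟩
    set m : ↥X := f (a * a) * (f a)⁻¹ * (f a)⁻¹ with hm
    obtain ⟨a', ha', hα⟩ := replacement hA (hYX.trans (hXP.trans hPS)) hYc hYn hyY (m := (m : G))
      (M.mul_mem (M.mul_mem (hfM _ (A.mul_mem ha ha)) (M.inv_mem (hfM a ha)))
        (M.inv_mem (hfM a ha)))
    refine ⟨a', ha', fun b hb => ?_⟩
    have hclm : cl ((f a')⁻¹ * m) =
        ρ a (ρ a (r u) - r u) - (ρ a (r u) - r u) - (ρ a' (r u) - r u) := by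
      rw [hcladd, hm, hcladd, hcladd, show cl (f a')⁻¹ = -cl (f a') from rfl,
        show cl (f a)⁻¹ = -cl (f a) from rfl, hclf, hclf, hclf, map_mul, map_sub]
      show -(ρ a' (r u) - r u) +
        (ρ a (ρ a (r u)) - r u + -(ρ a (r u) - r u) + -(ρ a (r u) - r u)) = _
      abel
    rw [← hclm, hρ]
    refine congrArg cl (Subtype.ext ?_)
    have hα' : (((f a')⁻¹ * m : ↥X) : G) ∈ A := hα
    show b * _ * b⁻¹ = _
    rw [hAc b hb _ hα', mul_inv_cancel_right])
  intro a ha k hk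
  obtain ⟨π, hπ, k', hk', e⟩ := hdec a k hk
  have h1 : ρ k' = ρ k := by
    rw [← hconc a ha k hk, e, map_mul, hρP π hπ, one_mul]
  have hL : k' * k⁻¹ ∈ L := by
    refine ⟨K.mul_mem hk' (K.inv_mem hk), fun x hx => ?_⟩
    have h2 : ρ (k' * k⁻¹) (cl ⟨x, hx⟩) = cl ⟨x, hx⟩ := by
      rw [map_mul, h1, ← map_mul, mul_inv_cancel, map_one]; rfl
    rw [hρ, hcleq] at h2
    have h3 := hX0c x _ (X0.inv_mem h2)
    simpa [mul_assoc] using h3
  rw [hLbot, mem_bot, mul_inv_eq_one] at hL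
  have e' : a * k * a⁻¹ * k⁻¹ = π := by rw [e, hL, mul_inv_cancel_right]
  rw [e']; exact hπ

end CfsgLib.ThompsonAbelian
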